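import Cfsg.Agent.H40.Co.Gens
import Cfsg.Agent.Golay.ConwayOrders
import Cfsg.Prelude.Def_Spor_Conway

/-!
The Conway group Co2 inside Co0, the elements given by words fixing the vector, and what the word
checks of Co0 give for them.
-/

set_option autoImplicit false

namespace Cfsg.Agent.H40.CoTwo

open Cfsg Cfsg.Agent.Golay Cfsg.Agent.H92.LeechOrbit
open Cfsg.Agent.H40.Co (nth eqP eq_of_eqP goodW goodW_sound runW keepS moveS setFixes mem_setFixes
  notMem_setFixes pow_le_card_closure)

/-- The automorphisms fixing the vector. -/
noncomputable abbrev H : Subgroup Co0 := MulAction.stabilizer Co0 Spor.leechU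

/-- The code of the vector. -/
def uCode : ℕ := 62062060636173731114942761100

theorem dec_uCode : dec uCode = Spor.leechU.1 := by decide +kernel

theorem sqNorm_leechU : sqNorm Spor.leechU.1 = 32 := by decide +kernel

theorem card_H : Nat.card ↥H = 42305421312000 := card_stab_min sqNorm_leechU

instance : Finite ↥H := (Nat.card_pos_iff.1 (by rw [card_H]; norm_num)).2

/-- A valid word fixing the code of the vector. -/
noncomputable def ok (w : List Atom) : Bool :=
  w.all atomOK && goodW w uCode && Nat.beq (runW w uCode) uCode

theorem atoms_of_ok {w : List Atom} (h : ok w = true) : w.all atomOK = true := by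
  simp only [ok, Bool.and_eq_true] at h
  exact h.1.1

theorem mem_of_ok {w : List Atom} (h : ok w = true) : wordEl w ∈ H := by
  simp only [ok, Bool.and_eq_true] at h
  obtain ⟨⟨h1, h2⟩, h3⟩ := h
  have h4 := goodW_sound h1 h2 (v := Spor.leechU) dec_uCode.symm
  rw [Nat.eq_of_beq_eq_true h3, dec_uCode] at h4
  exact MulAction.mem_stabilizer_iff.2 (Subtype.ext h4)

open Classical in
/-- The element of a word fixing the vector. -/
noncomputable def el (w : List Atom) : ↥H :=
  if h : ok w = true then ⟨wordEl w, mem_of_ok h⟩ else 1

theorem coe_el {w : List Atom} (h : ok w = true) : ((el w : ↥H) : Co0) = wordEl w := by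
  rw [el, dif_pos h]

theorem coe_prod_el {L : List (List Atom)} (hL : ∀ w ∈ L, ok w = true) :
    (((L.map el).prod : ↥H) : Co0) = (L.map wordEl).prod := by
  induction L with
  | nil => rfl
  | cons a r ih =>
    rw [List.map_cons, List.prod_cons, List.map_cons, List.prod_cons, Subgroup.coe_mul,
      coe_el (hL a List.mem_cons_self), ih fun w hw => hL w (List.mem_cons_of_mem _ hw)]

/-- An equation between products of words holds in the subgroup. -/
theorem el_eq {L M : List (List Atom)} (hL : ∀ w ∈ L, ok w = true) (hM : ∀ w ∈ M, ok w = true)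
    (h : eqP L M = true) : (L.map el).prod = (M.map el).prod := by
  refine Subtype.ext ?_
  rw [coe_prod_el hL, coe_prod_el hM]
  exact eq_of_eqP (fun w hw => atoms_of_ok (hL w hw)) (fun w hw => atoms_of_ok (hM w hw)) h

theorem el_eq_all {L M : List (List Atom)} (hL : L.all ok = true) (hM : M.all ok = true)
    (h : eqP L M = true) : (L.map el).prod = (M.map el).prod :=
  el_eq (List.all_eq_true.1 hL) (List.all_eq_true.1 hM) h

/-- The element of the `i`th word. -/
noncomputable def gen (gens : List (List Atom)) (i : ℕ) : ↥H := el (nth gens i)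

theorem ok_nth {gens : List (List Atom)} (h : gens.all ok = true) {i : ℕ} (hi : i < gens.length) :
    ok (nth gens i) = true := by
  rw [nth, List.getD_eq_getElem _ _ hi]
  exact List.all_eq_true.1 h _ (List.getElem_mem _)

theorem gen_pow {l : ℕ} {gens : List (List Atom)} (h : gens.all ok = true)
    (hp : Co.powOK l gens = true) {i : ℕ} (hi : i < gens.length) : gen gens i ^ l = 1 := by
  have h' := List.all_eq_true.1 hp (nth gens i) (by
    rw [nth, List.getD_eq_getElem _ _ hi]; exact List.getElem_mem _)
  have e := el_eq (L := List.replicate l (nth gens i)) (M := [])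
    (fun w hw => by rw [List.eq_of_mem_replicate hw]; exact ok_nth h hi) (by simp) h'
  simpa [gen] using e

theorem okAll_of_ok {gens : List (List Atom)} (h : gens.all ok = true) :
    Co.okAll gens = true :=
  List.all_eq_true.2 fun w hw => atoms_of_ok (List.all_eq_true.1 h w hw)

theorem gen_comm {gens : List (List Atom)} (h : gens.all ok = true) (hc : Co.commOK gens = true)
    {i j : ℕ} (hi : i < gens.length) (hj : j < gens.length) :
    Commute (gen gens i) (gen gens j) := by
  refine Subtype.ext ?_
  rw [Subgroup.coe_mul, Subgroup.coe_mul, gen, gen, coe_el (ok_nth h hi), coe_el (ok_nth h hj)]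
  exact Co.gen_comm (okAll_of_ok h) hc hi hj

/-- Conjugation by `g` sends `a` to the product of some generators. -/
theorem conj_of_conjOK {gens : List (List Atom)} (h : gens.all ok = true) {g a : List Atom}
    (hg : ok g = true) (ha : ok a = true) {X : List ℕ} (hXlt : ∀ x ∈ X, x < gens.length)
    (hX : Co.conjOK gens g a X = true) :
    el g * el a * (el g)⁻¹ = (X.map (gen gens)).prod := by
  have e := el_eq (L := [g, a]) (M := Co.pick gens X ++ [g]) (fun w hw => by
    simp only [List.mem_cons, List.not_mem_nil, or_false] at hw
    rcases hw with rfl | rfl <;> assumption) (fun w hw => by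
    rcases List.mem_append.1 hw with hw | hw
    · obtain ⟨x, hx, rfl⟩ := List.mem_map.1 hw
      exact ok_nth h (hXlt x hx)
    · rw [List.mem_singleton.1 hw]; exact hg) hX
  simp only [List.map_cons, List.map_nil, List.prod_cons, List.prod_nil, mul_one, List.map_append,
    List.prod_append, Co.pick, List.map_map] at e
  rw [e, mul_inv_cancel_right]
  rfl

theorem prod_gen_mem {gens : List (List Atom)} {n : ℕ} {X : List ℕ} (hX : ∀ x ∈ X, x < n) :
    (X.map (gen gens)).prod ∈ Subgroup.closure (gen gens '' {j | j < n}) :=
  Subgroup.list_prod_mem _ fun _ hw => by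
    obtain ⟨x, hx, rfl⟩ := List.mem_map.1 hw
    exact Subgroup.subset_closure ⟨x, hX x hx, rfl⟩

theorem pow_dvd_card_gens {l : ℕ} (hl : l.Prime) {gens : List (List Atom)}
    {C : List (List ℕ)} (h : gens.all ok = true) (hp : Co.powOK l gens = true)
    (hc : Co.commOK gens = true) (hC : Co.chainOK gens C = true) :
    l ^ gens.length ∣ Nat.card ↥(Subgroup.closure (gen gens '' {j | j < gens.length})) := by
  refine pow_le_card_closure l hl (gen gens) gens.length (fun i hi j hj => gen_comm h hc hi hj)
    (fun i hi => gen_pow h hp hi) fun i hi hmem => ?_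
  simp only [Co.chainOK, List.all_eq_true, List.mem_range, Bool.and_eq_true] at hC
  obtain ⟨hk, hm⟩ := hC i hi
  refine notMem_setFixes (atoms_of_ok (ok_nth h hi)) hm ?_
  rw [← coe_el (ok_nth h hi)]
  refine (Subgroup.closure_le ((setFixes (C.getD i [])).comap H.subtype)).2 ?_ hmem
  rintro _ ⟨j, hj, rfl⟩
  show (gen gens j : Co0) ∈ setFixes _
  rw [gen, coe_el (ok_nth h (lt_trans hj hi))]
  exact mem_setFixes (atoms_of_ok (ok_nth h (lt_trans hj hi))) (hk j hj)

/-- An element moving a set kept by a subgroup generated by one word is not the identity. -/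
theorem el_ne_one {w : List Atom} {S : List ℕ} (h : ok w = true) (hm : moveS w S = true) :
    el w ≠ 1 := by
  intro e
  refine notMem_setFixes (atoms_of_ok h) hm ?_
  rw [← coe_el h, e]
  exact one_mem _

end Cfsg.Agent.H40.CoTwo
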