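import Cfsg.Agent.H40.CoTwo.Base

/-!
An inverted abelian subgroup of Co2 given by words, extended by a subgroup given by words.
-/

set_option autoImplicit false

namespace Cfsg.Agent.H40.CoTwo

open Cfsg Cfsg.Agent.Golay Cfsg.Agent.H92.LeechOrbit
open Cfsg.Agent.H40.Co (nth eqP)

/-- An involution inverting the generators, from the checks. -/
theorem inverts {l : ℕ} {gens : List (List Atom)} {t : List Atom} (h : gens.all ok = true)
    (ht : ok t = true) (hp : Co.powOK (l + 1) gens = true)
    (hi : (eqP [t, t] [] && gens.all fun a => eqP [t, a, t] (List.replicate l a)) = true) :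
    el t * el t = 1 ∧ ∀ i < gens.length, el t * gen gens i * (el t)⁻¹ = (gen gens i)⁻¹ := by
  simp only [Bool.and_eq_true, List.all_eq_true] at hi
  obtain ⟨htt, hinv⟩ := hi
  have htt' : el t * el t = 1 := by
    simpa using el_eq (fun w hw => by
      simp only [List.mem_cons, List.not_mem_nil, or_false, or_self] at hw
      rw [hw]; exact ht) (by simp) htt
  refine ⟨htt', fun i hi => ?_⟩
  have e := el_eq (L := [t, nth gens i, t]) (M := List.replicate l (nth gens i)) (fun w hw => by
    simp only [List.mem_cons, List.not_mem_nil, or_false] at hw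
    rcases hw with rfl | rfl | rfl
    · exact ht
    · exact ok_nth h hi
    · exact ht) (fun w hw => by rw [List.eq_of_mem_replicate hw]; exact ok_nth h hi)
    (hinv (nth gens i) (by rw [nth, List.getD_eq_getElem _ _ hi]; exact List.getElem_mem _))
  simp only [List.map_cons, List.map_nil, List.prod_cons, List.prod_nil, mul_one,
    List.map_replicate, List.prod_replicate] at e
  rw [show (el t)⁻¹ = el t from inv_eq_of_mul_eq_one_right htt', mul_assoc, eq_inv_iff_mul_eq_one]
  show el t * (gen gens i * el t) * gen gens i = 1
  rw [show el t * (gen gens i * el t) = gen gens i ^ l from e, ← pow_succ]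
  exact gen_pow h hp hi

/-- Two words whose products commute. -/
theorem commute_of_eqP {a b : List Atom} (ha : ok a = true) (hb : ok b = true)
    (h : eqP [a, b] [b, a] = true) : Commute (el a) (el b) := by
  have e := el_eq (L := [a, b]) (M := [b, a]) (fun w hw => by
    simp only [List.mem_cons, List.not_mem_nil, or_false] at hw
    rcases hw with rfl | rfl <;> assumption) (fun w hw => by
    simp only [List.mem_cons, List.not_mem_nil, or_false] at hw
    rcases hw with rfl | rfl <;> assumption) h
  simpa [Commute, SemiconjBy] using e

/-- A power of a word equals the identity. -/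
theorem pow_of_eqP {n : ℕ} {a : List Atom} (ha : ok a = true)
    (h : eqP (List.replicate n a) [] = true) : el a ^ n = 1 := by
  have e := el_eq (L := List.replicate n a) (M := [])
    (fun w hw => by rw [List.eq_of_mem_replicate hw]; exact ha) (by simp) h
  rwa [List.map_replicate, List.prod_replicate, List.map_nil, List.prod_nil] at e

/-- Elements sending the generators into the subgroup they generate normalise it. -/
theorem conj_closure {G : Type*} [Group G] [Finite G] {A S : Set G}
    (h : ∀ s ∈ S, ∀ a ∈ A, s * a * s⁻¹ ∈ Subgroup.closure A) :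
    ∀ k ∈ Subgroup.closure S, ∀ a ∈ A, k * a * k⁻¹ ∈ Subgroup.closure A := by
  have hle : Subgroup.closure S ≤ Subgroup.normalizer (Subgroup.closure A : Set G) := by
    refine (Subgroup.closure_le _).2 fun s hs => ?_
    have hmap : (Subgroup.closure A).map (MulAut.conj s).toMonoidHom ≤ Subgroup.closure A := by
      rw [MonoidHom.map_closure, Subgroup.closure_le]
      rintro _ ⟨a, ha, rfl⟩
      exact h s hs a ha
    have he := Subgroup.eq_of_le_of_card_ge hmap
      (Subgroup.card_map_of_injective (MulAut.conj s).injective).ge
    rw [SetLike.mem_coe, Subgroup.mem_normalizer_iff]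
    intro a
    refine ⟨fun ha => hmap (Subgroup.mem_map_of_mem _ ha), fun ha => ?_⟩
    have ha' : s * a * s⁻¹ ∈ (Subgroup.closure A).map (MulAut.conj s).toMonoidHom := he.symm ▸ ha
    obtain ⟨b, hb, hbe⟩ := ha'
    rwa [← (MulAut.conj s).injective (a₁ := b) (a₂ := a) hbe]
  intro k hk a ha
  exact (Subgroup.mem_normalizer_iff.1 (hle hk) a).1 (Subgroup.subset_closure ha)

end Cfsg.Agent.H40.CoTwo
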