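import Cfsg.Agent.H40.CoTwo.FiveCheck
import Cfsg.Agent.H40.CoTwo.Common

/-!
Co2 has no stem extension with kernel of order five: an inverted elementary abelian subgroup of
order 25 extended by an element of order five commuting with the inverting involution.
-/

set_option autoImplicit false

namespace Cfsg.Agent.H40.CoTwo

open Cfsg Cfsg.Agent.Golay Cfsg.Agent.H92.LeechOrbit Cfsg.Agent.Linear.Mult
open Cfsg.Agent.H40.Co (cm_eq_one_of_power cm_eq_one_of_closure killed_inverted_extended nth)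

attribute [local irreducible] wordEl el fiveGens fiveTop fiveInv fiveWit Co.eqP Co.conjOK fiveConj
  fiveChain ok

theorem noStem_five : NoStem 5 ↥H := by
  have hp : Nat.Prime 5 := by norm_num
  have h := five_ok
  simp only [Bool.and_eq_true] at h
  obtain ⟨⟨⟨⟨hok, hti⟩, hwi⟩, htop⟩, hlen⟩ := h
  have hlen : fiveGens.length = 2 := Nat.eq_of_beq_eq_true hlen
  obtain ⟨htt, hA⟩ := inverts (l := 4) hok hti five_pow five_inv
  have htp := five_top
  simp only [Bool.and_eq_true] at htp
  obtain ⟨⟨hs5, hts⟩, hmv⟩ := htp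
  replace hs5 := pow_of_eqP htop hs5
  replace hts := commute_of_eqP hti htop hts
  have hs1 : el fiveTop ≠ 1 := el_ne_one htop hmv
  have hw := five_wit
  simp only [Bool.and_eq_true] at hw
  have hW0 : el fiveWit * gen fiveGens 0 * (el fiveWit)⁻¹ = gen fiveGens 0 ^ 2 := by
    rw [gen, conj_of_conjOK hok hwi (ok_nth hok (by omega)) (by simp [hlen]) hw.1]
    simp [gen, pow_two]
  have hW1 : el fiveWit * gen fiveGens 1 * (el fiveWit)⁻¹ = gen fiveGens 1 ^ 1 := by
    rw [gen, conj_of_conjOK hok hwi (ok_nth hok (by omega)) (by simp [hlen]) hw.2]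
    simp [gen]
  refine noStem_of_killed hp fun Γ _ _ E => ?_
  haveI := Fact.mk hp
  set A : Set ↥H := gen fiveGens '' {j | j < 2} with hAdef
  have h01 : E.cm (gen fiveGens 0) (gen fiveGens 1) = 1 :=
    cm_eq_one_of_power E (gen_comm hok five_comm (by omega) (by omega)) hW0 hW1 (by decide)
  have h10 : E.cm (gen fiveGens 1) (gen fiveGens 0) = 1 :=
    cm_eq_one_of_power E (gen_comm hok five_comm (by omega) (by omega)) hW1 hW0 (by decide)
  have hAA : ∀ a ∈ A, ∀ b ∈ A, E.cm a b = 1 := by
    rintro _ ⟨i, hi, rfl⟩ _ ⟨j, hj, rfl⟩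
    change i < 2 at hi
    change j < 2 at hj
    interval_cases i <;> interval_cases j
    · exact E.cm_self _
    · exact h01
    · exact h10
    · exact E.cm_self _
  have hconj := five_conj
  simp only [List.all_eq_true, List.mem_range, Bool.and_eq_true, decide_eq_true_eq] at hconj
  have hnorm := conj_closure (S := {el fiveTop}) (A := A) (by
    rintro _ rfl _ ⟨i, hi, rfl⟩
    rw [gen, conj_of_conjOK hok htop (ok_nth hok (hlen.symm ▸ hi))
      (fun x hx => hlen.symm ▸ (hconj i hi).1 x hx) (hconj i hi).2]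
    exact prod_gen_mem (hconj i hi).1)
  rw [← Subgroup.zpowers_eq_closure] at hnorm
  have hot : orderOf (el fiveInv) ∣ 2 := orderOf_dvd_of_pow_eq_one (by rw [pow_two, htt])
  have hTK : ∀ k ∈ Subgroup.zpowers (el fiveTop),
      Commute (el fiveInv) k ∧ E.cm (el fiveInv) k = 1 := by
    intro k hk
    rw [Subgroup.zpowers_eq_closure] at hk
    refine cm_eq_one_of_closure E (S := {el fiveTop}) ?_ k hk
    rintro x rfl
    refine ⟨hts, E.cm_eq_one_of_coprime hts ?_⟩
    exact Nat.Coprime.coprime_dvd_left hot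
      (Nat.Coprime.coprime_dvd_right (orderOf_dvd_of_pow_eq_one hs5) (by norm_num))
  obtain ⟨hk, hc⟩ := killed_inverted_extended E (by norm_num) A (Subgroup.zpowers (el fiveTop))
    (el fiveInv) (by rintro _ ⟨i, hi, rfl⟩; exact hA i (hlen.symm ▸ hi))
    (by rintro _ ⟨i, hi, rfl⟩; exact gen_pow hok five_pow (hlen.symm ▸ hi))
    hAA (LExt.killed_zpowers _) hTK hnorm
  refine ⟨_, hk, fun hd => ?_⟩
  have h3 := pow_dvd_card_gens hp (l := 5) hok five_pow five_comm five_chain
  rw [hlen] at h3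
  have h4 : 5 ^ 3 ∣ Nat.card ↥(Subgroup.closure A ⊔ Subgroup.zpowers (el fiveTop) : Subgroup ↥H) := by
    rw [hc, Nat.card_zpowers, orderOf_eq_prime hs5 hs1, show (5 : ℕ) ^ 3 = 5 ^ 2 * 5 from rfl]
    exact Nat.mul_dvd_mul h3 dvd_rfl
  have := Nat.mul_dvd_mul h4 hd
  rw [Subgroup.card_mul_index, card_H] at this
  norm_num at this

end Cfsg.Agent.H40.CoTwo
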