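import Cfsg.Agent.H40.CoTwo.FiveData
import Cfsg.Agent.H40.CoTwo.Base

/-! Kernel checks of the words for the prime 5. -/

set_option autoImplicit false
set_option maxRecDepth 100000

namespace Cfsg.Agent.H40.CoTwo

open Cfsg Cfsg.Agent.Golay Cfsg.Agent.H92.LeechOrbit
open Cfsg.Agent.H40.Co (eqP conjOK commOK powOK chainOK moveS nth)

theorem five_ok : (fiveGens.all ok && ok fiveInv && ok fiveWit && ok fiveTop &&
    Nat.beq fiveGens.length 2) = true := by decide +kernel

theorem five_comm : commOK fiveGens = true := by decide +kernel

theorem five_pow : powOK 5 fiveGens = true := by decide +kernel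

theorem five_chain : chainOK fiveGens fiveChain = true := by decide +kernel

theorem five_inv : (eqP [fiveInv, fiveInv] [] && fiveGens.all fun a =>
    eqP [fiveInv, a, fiveInv] (List.replicate 4 a)) = true := by decide +kernel

theorem five_wit : (conjOK fiveGens fiveWit (nth fiveGens 0) [0, 0] &&
    conjOK fiveGens fiveWit (nth fiveGens 1) [1]) = true := by decide +kernel

theorem five_conj : ((List.range 2).all fun i =>
    ((fiveConj.getD i []).all fun x => decide (x < 2)) &&
    conjOK fiveGens fiveTop (nth fiveGens i) (fiveConj.getD i [])) = true := by decide +kernel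

theorem five_top : (eqP (List.replicate 5 fiveTop) [] &&
    eqP [fiveInv, fiveTop] [fiveTop, fiveInv] && moveS fiveTop [fiveMoved]) = true := by
  decide +kernel

end Cfsg.Agent.H40.CoTwo
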