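import Cfsg.Agent.H92.LeechOrbit

/-! Generated data: a Sylow 5-subgroup of Co2 and witnesses. -/

set_option autoImplicit false

namespace Cfsg.Agent.H40.CoTwo

open Cfsg.Agent.H92.LeechOrbit

/-- Generators of the abelian subgroup. -/
def fiveGens : List (List Atom) := [
  [.mono 0 0 959496586030479691793005526949433664],
  [.mono 1909678 1289224501071159764193552 761330828264611605667365551831985602,
    .zeta,
    .mono 10864326 4971107712293562376907653392 99960815024906451324498813702882985,
    .zeta,
    .mono 1948407 1289225654291727255666961 843931227691413967891040853030274167,
    .zeta,
    .mono 11644738 4972311915679157738239164432 251409438517723588181366450974537324,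
    .zeta,
    .mono 16272351 5281872463832116038138401041 178347685663383338804646979657452237,
    .zeta]]

/-- The inverting involution. -/
def fiveInv : List Atom :=
  [.mono 7500648 330037043979541685721894912 6627913972021653128705668902734071]

/-- An element squaring the first generator and fixing the second. -/
def fiveWit : List Atom :=
  [.mono 7500648 330037043979541685721894912 29431340368592188568687791387069527]

/-- The further generator. -/
def fiveTop : List Atom :=
  [.mono 11607845 4972311914522014108965929217 332983357833410050843692079462354674,
    .zeta,
    .mono 2073809 1289520801898870236839937 778163233843726882996469154533974539,
    .zeta,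
    .mono 0 0 1795248432537898728475572672376535,
    .mono 2603848 19347850232690433931087872 237649876681291723269798716808138372,
    .zeta,
    .mono 10528741 4971102971412781443438346497 318733759141561704832167993638561923,
    .zeta]

/-- Conjugates of the generators by the further one, as products of generators. -/
def fiveConj : List (List ℕ) := [[0, 1], [1]]

/-- Sets of vectors kept by the earlier generators and moved by the next. -/
def fiveChain : List (List ℕ) := [[42255020007607646716556773580],
  [42255020007607646716623882380]]

/-- A vector moved by the further generator. -/
def fiveMoved : ℕ := 42255020007608211866070461098

end Cfsg.Agent.H40.CoTwo
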