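import Cfsg.Agent.H95.KilledTwo

/-!
A cheaper form of the collector certificate of a 2-subgroup: when every rule ascends along the
generators, the later generators have normal forms by induction along the chain and nothing has to
be collected.
-/

set_option autoImplicit false

namespace Cfsg.Agent.H40.CoTwo

open Cfsg.Agent.H94.Mult Cfsg.Agent.Linear.Mult Cfsg.Agent.H95.KilledTwo
open Cfsg.Agent.H95.KilledTwo.Cert (comm_mem fuel eqForms)
open scoped commutatorElement

theorem above_of_shift {d w : ℕ} (h : (w >>> d) <<< d = w) : Above d w := h ▸ above_shift _ _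

/-- Normal forms exhaust the subgroup of the later generators when the rules ascend. -/
theorem normalForm_of_layers {R : Rules} {E : Type*} [Group E] [Finite E] (M : Model R E) (d₀ : ℕ)
    (hsq : ∀ j, d₀ ≤ j → j < R.n → Above (j + 1) (R.sqRule j).1 ∧ M.V (R.sqRule j).2 = 1)
    (hcm : ∀ a b, a < b → b < R.n → Above (b + 1) (R.cmRule b a).1 ∧ M.V (R.cmRule b a).2 = 1) :
    ∀ d, d₀ ≤ d → d ≤ R.n → ∀ x ∈ M.derSub d, ∃ m, Above d m ∧ m < 2 ^ R.n ∧ M.nf m = x := by
  suffices ∀ k d, d + k = R.n → d₀ ≤ d → ∀ x ∈ M.derSub d,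
      ∃ m, Above d m ∧ m < 2 ^ R.n ∧ M.nf m = x from
    fun d h1 h2 => this (R.n - d) d (Nat.add_sub_cancel' h2) h1
  intro k
  induction k with
  | zero =>
    intro d hd _ x hx
    have he : M.derSub d = ⊥ := by
      rw [Model.derSub, Subgroup.closure_eq_bot_iff]
      rintro y ⟨i, h1, h2, -⟩
      omega
    rw [he, Subgroup.mem_bot] at hx
    exact ⟨0, above_zero d, Nat.two_pow_pos _, by rw [M.nf_zero, hx]⟩
  | succ k ih =>
    intro d hd hd₀ x hx
    have hdn : d < R.n := by omega
    have hN : M.G d ∈ Subgroup.normalizer (M.derSub (d + 1) : Set E) :=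
      M.G_mem_normalizer hdn fun a b hab hb hdb =>
        ⟨fun i hi => (hcm a b hab hb).1 i (by omega), (hcm a b hab hb).2⟩
    have key : ∀ y ∈ M.derSub d, ∃ e : Bool, ∃ z ∈ M.derSub (d + 1),
        y = (if e then M.G d else 1) * z := by
      intro y hy
      have hy' : y ∈ Submonoid.closure {x | ∃ i, d ≤ i ∧ i < R.n ∧ M.G i = x} := by
        rw [← Subgroup.closure_toSubmonoid_of_finite]; exact hy
      clear hy
      induction hy' using Submonoid.closure_induction_right with
      | one => exact ⟨false, 1, one_mem _, by simp⟩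
      | mul_right y hy g hg ihy =>
        obtain ⟨i, hi1, hi2, rfl⟩ := hg
        obtain ⟨e, z, hz, rfl⟩ := ihy
        by_cases hid : i = d
        · subst hid
          have hz' : (M.G i)⁻¹ * z * M.G i ∈ M.derSub (i + 1) := by
            have := (Subgroup.mem_normalizer_iff.1 (inv_mem hN) z).1 hz
            rwa [inv_inv] at this
          cases e
          · exact ⟨true, _, hz', by simp only [Bool.false_eq_true, if_false, if_true]; group⟩
          · refine ⟨false, M.nf (R.sqRule i).1 * ((M.G i)⁻¹ * z * M.G i),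
              mul_mem (M.nf_mem_derSub (hsq i hd₀ hi2).1) hz', ?_⟩
            have hs : M.G i * M.G i = M.nf (R.sqRule i).1 := by
              rw [M.sq_rule i hi2, (hsq i hd₀ hi2).2, mul_one]; rfl
            rw [← hs]
            simp only [Bool.false_eq_true, if_false, if_true]
            group
        · exact ⟨e, z * M.G i, mul_mem hz (M.G_mem_derSub (by omega) hi2), mul_assoc _ _ _⟩
    obtain ⟨e, z, hz, rfl⟩ := key x hx
    obtain ⟨m, hm1, hm2, rfl⟩ := ih (d + 1) (by omega) (by omega) z hz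
    cases e
    · exact ⟨m, fun i hi => hm1 i (by omega), hm2, by simp⟩
    · refine ⟨2 ^ d ||| m, fun i hi => ?_, Nat.or_lt_two_pow
        (Nat.pow_lt_pow_right (by norm_num) hdn) hm2, ?_⟩
      · rw [Nat.testBit_or, Nat.testBit_two_pow, hm1 i (by omega)]
        simp [(ne_of_gt hi)]
      · have h1 : (2 ^ d ||| m) % 2 ^ (d + 1) = 2 ^ d := by
          apply Nat.eq_of_testBit_eq
          intro i
          rw [Nat.testBit_mod_two_pow, Nat.testBit_or, Nat.testBit_two_pow]
          by_cases hi : i < d + 1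
          · rw [hm1 i hi]; simp [hi]
          · simp [hi, show ¬ d = i by omega]
        have h2 : ((2 ^ d ||| m) >>> (d + 1)) <<< (d + 1) = m := by
          apply Nat.eq_of_testBit_eq
          intro i
          rw [Nat.testBit_shiftLeft, Nat.testBit_shiftRight]
          by_cases hi : i < d + 1
          · rw [hm1 i hi]; simp [Nat.not_le.2 hi]
          · rw [Nat.add_sub_cancel' (Nat.le_of_not_lt hi), Nat.testBit_or, Nat.testBit_two_pow]
            simp [Nat.le_of_not_lt hi, show ¬ d = i by omega]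
        rw [M.nf_low_high (d + 1) _ (by omega), h1, h2, M.nf_two_pow hdn]
        rfl

/-- The equations hold and suffice. -/
def checkEqs (C : Cert) : Bool :=
  (C.eqs.all Option.isSome) &&
  ((List.range C.vars.length).all fun v => !C.Z.testBit v ||
    C.proofs.any fun p => p.1 == v && p.2.foldl (fun acc e => acc ^^^ C.eqForms.getD e 0) 0 == 2 ^ v)

/-- The rules ascend, and the tails needed vanish. -/
def checkLayers (C : Cert) : Bool :=
  (List.range C.R.n).all fun j =>
    ((((C.R.sqRule j).1 >>> (j + 1)) <<< (j + 1) == (C.R.sqRule j).1) &&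
      (decide (j < C.nb) || ((C.R.sqRule j).2 &&& C.Z == (C.R.sqRule j).2))) &&
    (List.range j).all fun i =>
      (C.inDer (C.R.cmRule j i).1 &&
        (((C.R.cmRule j i).1 >>> (j + 1)) <<< (j + 1) == (C.R.cmRule j i).1)) &&
      ((C.R.cmRule j i).2 &&& C.Z == (C.R.cmRule j i).2)

variable (C : Cert)

theorem killed_layered_cm {X G₀ : Type*} [Group X] [Finite X] [Group G₀] [Finite G₀] (E : LExt 2 X G₀)
    (PM : Model C.R G₀) (hV : ∀ f, PM.V f = 1) (hr : C.checkRules = true)
    (he : checkEqs C = true) (hl : checkLayers C = true)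
    (hfus : ∀ p ∈ C.sqEqs, ∃ g : G₀, g * PM.nf p.1 * g⁻¹ = PM.nf p.2)
    (hfus₂ : ∀ p ∈ C.cmEqs, (∃ g : G₀, g * PM.nf p.1.1 * g⁻¹ = PM.nf p.2.1 ∧
      g * PM.nf p.1.2 * g⁻¹ = PM.nf p.2.2) ∨
      (p.2 = (0, 0) ∧ E.cm (PM.nf p.1.1) (PM.nf p.1.2) = 1))
    (hcard : 2 ^ C.R.n ≤ Nat.card (C.grp PM)) :
    E.Killed (C.grp PM) ∧ Nat.card (C.grp PM) = 2 ^ C.R.n := by
  classical
  set ρ : X →* G₀ := E.proj with hρdef
  have hcen : ∀ x, ρ x = 1 → ∀ y : X, y * x = x * y := fun x hx y => E.ker_central hx y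
  have hsurj : ∀ g : G₀, ∃ x, ρ x = g := fun g => E.surj g
  have hsq : ∀ x, ρ x = 1 → x * x = 1 := fun x hx => by
    have := E.ker_pow hx
    rwa [pow_two] at this
  simp only [Cert.checkRules, Bool.and_eq_true, List.all_eq_true, decide_eq_true_eq, beq_iff_eq,
    List.mem_range] at hr
  obtain ⟨⟨⟨hnb, hrules⟩, hdefs⟩, hdlen⟩ := hr
  -- lifts, obeying the defining rules
  obtain ⟨G, hG1, hG2⟩ : ∃ G : ℕ → X, (∀ k < C.R.n, ρ (G k) = PM.G k) ∧
      ∀ d < C.defs.length, ∀ t j i, C.defs.getD d (0, 0, 0) = (t, j, i) →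
        (t = 0 → G j * G j = G (C.nb + d)) ∧
        (t = 1 → G j * G i = G i * G j * G (C.nb + d)) := by
    suffices ∀ f ≤ C.defs.length, ∃ G : ℕ → X, (∀ k < C.R.n, ρ (G k) = PM.G k) ∧
        ∀ d < f, ∀ t j i, C.defs.getD d (0, 0, 0) = (t, j, i) →
          (t = 0 → G j * G j = G (C.nb + d)) ∧
          (t = 1 → G j * G i = G i * G j * G (C.nb + d)) from this _ le_rfl
    intro f
    induction f with
    | zero =>
      intro _
      have hex : ∀ k, ∃ x, k < C.R.n → ρ x = PM.G k := fun k => by
        by_cases hk : k < C.R.n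
        · obtain ⟨x, hx⟩ := hsurj (PM.G k)
          exact ⟨x, fun _ => hx⟩
        · exact ⟨1, fun h => absurd h hk⟩
      choose s hs using hex
      exact ⟨s, hs, fun d hd => absurd hd (Nat.not_lt_zero d)⟩
    | succ f ih =>
      intro hf'
      obtain ⟨G, h1, h2⟩ := ih (Nat.le_of_succ_le hf')
      have hspec := hdefs f hf'
      generalize hd : C.defs.getD f (0, 0, 0) = d at hspec
      obtain ⟨t, j, i⟩ := d
      simp only [Bool.and_eq_true, Bool.or_eq_true, decide_eq_true_eq, beq_iff_eq] at hspec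
      obtain ⟨⟨hw, hj⟩, hti⟩ := hspec
      have hkn : C.nb + f < C.R.n := by omega
      let x := if t = 0 then G j * G j else (G i * G j)⁻¹ * (G j * G i)
      have hx : ρ x = PM.G (C.nb + f) := by
        have hjn : j < C.R.n := by omega
        rcases hti with ⟨rfl, rfl⟩ | ⟨rfl, hij⟩
        · simp only [x, if_pos, map_mul, h1 j hjn]
          rw [PM.sq_rule j hjn, hV, mul_one]
          simp only [Cert.wordOf] at hw
          rw [show (C.R.sqRule j).1 = 2 ^ (C.nb + f) from hw]
          exact PM.nf_two_pow hkn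
        · simp only [x, Nat.one_ne_zero, if_false, map_mul, map_inv, h1 j hjn,
            h1 i (hij.trans hjn)]
          rw [PM.cm_rule i j hij hjn, hV, mul_one, inv_mul_cancel_left]
          simp only [Cert.wordOf] at hw
          rw [show (C.R.cmRule j i).1 = 2 ^ (C.nb + f) from hw]
          exact PM.nf_two_pow hkn
      refine ⟨Function.update G (C.nb + f) x, fun k hk => ?_, fun d hd' t' j' i' he => ?_⟩
      · by_cases hkf : k = C.nb + f
        · subst hkf; rw [Function.update_self, hx]
        · rw [Function.update_of_ne hkf, h1 k hk]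
      rcases Nat.lt_succ_iff_lt_or_eq.1 hd' with hlt | rfl
      · have hspec' := hdefs d (by omega)
        rw [he] at hspec'
        simp only [Bool.and_eq_true, Bool.or_eq_true, decide_eq_true_eq, beq_iff_eq] at hspec'
        obtain ⟨⟨-, hj'⟩, hti'⟩ := hspec'
        rw [Function.update_of_ne (show j' ≠ C.nb + f by omega),
          Function.update_of_ne (show C.nb + d ≠ C.nb + f by omega)]
        obtain ⟨e1, e2⟩ := h2 d hlt t' j' i' he
        refine ⟨e1, fun ht1 => ?_⟩
        have hi' : i' < j' := by rcases hti' with h | h <;> omega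
        rw [Function.update_of_ne (show i' ≠ C.nb + f by omega)]
        exact e2 ht1
      · rw [hd] at he
        simp only [Prod.mk.injEq] at he
        obtain ⟨rfl, rfl, rfl⟩ := he
        rw [Function.update_of_ne (show j ≠ C.nb + d by omega), Function.update_self]
        refine ⟨fun h0 => by simp [x, h0], fun h1' => ?_⟩
        have hi : i < j := by rcases hti with h | h <;> omega
        rw [Function.update_of_ne (show i ≠ C.nb + d by omega)]
        simp only [x, h1', Nat.one_ne_zero, if_false]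
        rw [mul_inv_cancel_left]
  -- normal forms and tails
  let NF : ℕ → X := fun w => ((bitsOf C.R.n w).map G).prod
  have hρNF : ∀ w, ρ (NF w) = PM.nf w := fun w => by
    simp only [NF, Model.nf, map_list_prod, List.map_map]
    congr 1
    exact List.map_congr_left fun k hk => hG1 k (Model.bitsOf_mem.1 hk).1
  let disc : ℕ × ℕ × ℕ → X := fun r =>
    if r.1 = 0 then (NF (C.wordOf r))⁻¹ * (G r.2.1 * G r.2.1)
    else (G r.2.2 * G r.2.1 * NF (C.wordOf r))⁻¹ * (G r.2.1 * G r.2.2)
  let Dv : ℕ → X := fun v => if ρ (disc (C.vars.getD v (0, 0, 0))) = 1 then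
    disc (C.vars.getD v (0, 0, 0)) else 1
  have hDv : ∀ v, ρ (Dv v) = 1 := fun v => by
    simp only [Dv]; split_ifs with h
    exacts [h, map_one ρ]
  let Vn : ℕ → ℕ → X := fun N f => ((List.range N).map fun v =>
    if f.testBit v then Dv v else 1).prod
  have hVρ : ∀ N f, ρ (Vn N f) = 1 := fun N f => by
    simp only [Vn, map_list_prod, List.map_map]
    refine List.prod_eq_one fun y hy => ?_
    obtain ⟨v, -, rfl⟩ := List.mem_map.1 hy
    simp only [Function.comp]
    split_ifs
    exacts [hDv v, map_one ρ]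
  have hVsucc : ∀ N f, Vn (N + 1) f = Vn N f * if f.testBit N then Dv N else 1 := fun N f => by
    simp [Vn, List.range_succ]
  have hVxor : ∀ N a b, Vn N (a ^^^ b) = Vn N a * Vn N b := by
    intro N
    induction N with
    | zero => intro a b; simp [Vn]
    | succ N ih =>
      intro a b
      rw [hVsucc, hVsucc, hVsucc, ih, Nat.testBit_xor]
      have hc : ∀ y, y * (if a.testBit N then Dv N else 1) = (if a.testBit N then Dv N else 1) * y :=
        fun y => by split_ifs <;> [exact hcen _ (hDv N) y; simp]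
      rw [mul_assoc (Vn N a) (if a.testBit N then Dv N else 1), ← mul_assoc _ (Vn N b),
        ← hc (Vn N b)]
      simp only [mul_assoc]
      congr 2
      cases a.testBit N <;> cases b.testBit N <;> simp [hsq _ (hDv N)]
  have hVzero : ∀ N, Vn N 0 = 1 := fun N => by
    simp [Vn]
  have hVpow : ∀ N v, v < N → Vn N (2 ^ v) = Dv v := by
    intro N
    induction N with
    | zero => intro v hv; omega
    | succ N ih =>
      intro v hv
      rw [hVsucc, Nat.testBit_two_pow]
      rcases Nat.lt_succ_iff_lt_or_eq.1 hv with hlt | rfl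
      · rw [ih v hlt]; simp [hlt.ne]
      · have : Vn v (2 ^ v) = 1 := by
          refine List.prod_eq_one fun y hy => ?_
          obtain ⟨w, hw, rfl⟩ := List.mem_map.1 hy
          simp [Nat.testBit_two_pow, (List.mem_range.1 hw).ne']
        rw [this]; simp
  let V : ℕ → X := Vn C.vars.length
  have hrule : ∀ r ∈ C.allRules, ρ (disc r) = 1 → V (C.formOf r) = disc r := by
    intro r hr hρr
    have hok := (hrules r hr)
    simp only [Cert.ruleOK, Bool.or_eq_true, Bool.and_eq_true, beq_iff_eq, List.contains_iff_mem,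
      List.any_eq_true, List.mem_range] at hok
    rcases hok with ⟨h0, hd⟩ | ⟨v, hv, hfv, hvr⟩
    · rw [h0, show V 0 = 1 from hVzero _]
      obtain ⟨d, hdl, hde⟩ := List.getElem_of_mem hd
      have hgd : C.defs.getD d (0, 0, 0) = r := by rw [List.getD_eq_getElem _ _ hdl, hde]
      obtain ⟨t, j, i⟩ := r
      have hspec := hdefs d hdl
      rw [hgd] at hspec
      simp only [Bool.and_eq_true, Bool.or_eq_true, decide_eq_true_eq, beq_iff_eq] at hspec
      obtain ⟨⟨hw, -⟩, hti⟩ := hspec
      have hnfd : NF (C.wordOf (t, j, i)) = G (C.nb + d) := by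
        rw [hw]
        show ((bitsOf C.R.n (2 ^ (C.nb + d))).map G).prod = _
        rw [Model.bitsOf_split (n := C.R.n) (j := C.nb + d) (by omega) (by simp)
          (fun k hk _ => by rw [Nat.testBit_two_pow]; simp [hk.ne]), Nat.xor_self]
        simp [bitsOf]
      obtain ⟨e0, e1⟩ := hG2 d hdl t j i hgd
      rcases hti with ⟨rfl, rfl⟩ | ⟨rfl, -⟩
      · simp only [disc, if_pos]
        rw [hnfd, e0 rfl, inv_mul_cancel]
      · simp only [disc, Nat.one_ne_zero, if_false]
        rw [hnfd, e1 rfl, inv_mul_cancel]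
    · rw [hfv, show V (2 ^ v) = Dv v from hVpow _ v hv]
      simp only [Dv, hvr, hρr, if_true]
  have hmem0 : ∀ j < C.R.n, (0, j, 0) ∈ C.allRules := fun j hj => by
    simp only [Cert.allRules, List.mem_flatMap, List.mem_range, List.mem_cons]
    exact ⟨j, hj, .inl rfl⟩
  have hmem1 : ∀ j i, i < j → j < C.R.n → (1, j, i) ∈ C.allRules := fun j i hij hj => by
    simp only [Cert.allRules, List.mem_flatMap, List.mem_range, List.mem_cons, List.mem_map]
    exact ⟨j, hj, .inr ⟨i, hij, rfl⟩⟩
  let M : Model C.R X :=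
    { G := G
      V := V
      V_zero := hVzero _
      V_xor := hVxor _
      V_central := fun a x => hcen _ (hVρ _ a) x
      sq_rule := fun i hi => by
        have hd : ρ (disc (0, i, 0)) = 1 := by
          simp only [disc, if_pos, map_mul, map_inv, hG1 i hi, hρNF, Cert.wordOf]
          rw [PM.sq_rule i hi, hV, mul_one]
          exact inv_mul_cancel _
        have := hrule _ (hmem0 i hi) hd
        simp only [disc, if_pos, Cert.formOf, Cert.wordOf] at this
        rw [this]
        exact (mul_inv_cancel_left _ _).symm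
      cm_rule := fun i j hij hj => by
        have hd : ρ (disc (1, j, i)) = 1 := by
          simp only [disc, Nat.one_ne_zero, if_false, map_mul, map_inv, hG1 j hj,
            hG1 i (hij.trans hj), hρNF, Cert.wordOf]
          rw [PM.cm_rule i j hij hj, hV, mul_one]
          exact inv_mul_cancel _
        have := hrule _ (hmem1 j i hij hj) hd
        simp only [disc, Nat.one_ne_zero, if_false, Cert.formOf, Cert.wordOf] at this
        rw [this]
        exact (mul_inv_cancel_left _ _).symm }
  have hρnf : ∀ w, ρ (M.nf w) = PM.nf w := hρNF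
  have hρV : ∀ f, ρ (M.V f) = 1 := hVρ _
  have hmul : ∀ u v a f, mulList (mulGen C.R fuel) (bitsOf C.R.n v) u = some (a, f) →
      M.nf u * M.nf v = M.nf a * M.V f :=
    fun u v a f h => M.mulList_spec (fun a b c d e => M.mulGen_spec fuel a b c d e) _ _ _ _ h
  have hmul0 : ∀ (ks : List ℕ) a f, mulList (mulGen C.R fuel) ks 0 = some (a, f) →
      (ks.map M.G).prod = M.nf a * M.V f := fun ks a f h => by
    have := M.mulList_spec (fun a b c d e => M.mulGen_spec fuel a b c d e) _ _ _ _ h
    rwa [M.nf_zero, one_mul] at this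
  have hconj : ∀ u a (g : G₀), g * PM.nf u * g⁻¹ = PM.nf a →
      ∀ H, ρ H = g → ∃ c, ρ c = 1 ∧ H * M.nf u * H⁻¹ = M.nf a * c := by
    intro u a g hc H hH
    refine ⟨(M.nf a)⁻¹ * (H * M.nf u * H⁻¹), ?_, (mul_inv_cancel_left _ _).symm⟩
    simp only [map_mul, map_inv, hρnf, hH, hc, inv_mul_cancel]
  -- the equations hold
  have htri : ∀ x e, C.triEq x = some e → M.V e = 1 := by
    rintro ⟨k, j, i⟩ e h
    simp only [Cert.triEq] at h
    split at h
    · next a f₁ p g₁ h₁ h₂ =>
      split at h
      · next a' g₂ h₃ =>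
        split at h
        · next hab =>
          simp only [Option.some.injEq] at h
          rw [beq_iff_eq] at hab
          subst hab
          subst h
          have e1 := hmul0 _ _ _ h₁
          have e2 := hmul0 _ _ _ h₂
          have e3 := hmul0 _ _ _ h₃
          rw [List.map_cons, List.prod_cons] at e3
          change M.G k * M.nf p = _ at e3
          rw [List.map_cons, List.prod_cons, e2, ← mul_assoc, e3, mul_assoc,
            mul_left_cancel_iff] at e1
          rw [M.V_xor, M.V_xor, ← e1, ← mul_assoc, mul_assoc (M.V g₂), ← M.V_xor, Nat.xor_self,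
            M.V_zero, mul_one, ← M.V_xor, Nat.xor_self, M.V_zero]
        · simp at h
      · simp at h
    · simp at h
  have hsqe : ∀ x ∈ C.sqEqs, ∀ e, C.sqEq x = some e → M.V e = 1 := by
    rintro ⟨u, w⟩ hx e h
    simp only [Cert.sqEq] at h
    split at h
    · next a f₁ b g₁ h₁ h₂ =>
      split at h
      · next hc =>
        simp only [Bool.and_eq_true, beq_iff_eq] at hc
        obtain ⟨rfl, rfl⟩ := hc
        simp only [Option.some.injEq] at h
        subst h
        obtain ⟨g, hg'⟩ := hfus _ hx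
        obtain ⟨H, hH⟩ := hsurj g
        obtain ⟨c, hc1, hce⟩ := hconj u w g hg' H hH
        have e1 := hmul u u _ f₁ h₁
        have e2 := hmul w w _ g₁ h₂
        rw [M.nf_zero, one_mul] at e1 e2
        have : H * (M.nf u * M.nf u) * H⁻¹ = M.nf w * M.nf w := by
          calc H * (M.nf u * M.nf u) * H⁻¹ = (H * M.nf u * H⁻¹) * (H * M.nf u * H⁻¹) := by group
            _ = M.nf w * (c * M.nf w) * c := by rw [hce]; simp only [mul_assoc]
            _ = M.nf w * M.nf w * (c * c) := by rw [← hcen c hc1 (M.nf w)]; simp only [mul_assoc]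
            _ = M.nf w * M.nf w := by rw [hsq c hc1, mul_one]
        rw [e1, e2, M.V_central f₁ H, mul_inv_cancel_right] at this
        rw [M.V_xor, this, ← M.V_xor, Nat.xor_self, M.V_zero]
      · simp at h
    · simp at h
  have hcme : ∀ x ∈ C.cmEqs, ∀ e, C.cmEq x = some e → M.V e = 1 := by
    rintro ⟨⟨u, v⟩, a, b⟩ hx e h
    simp only [Cert.cmEq] at h
    split at h
    · next r f r' f' t g t' g' h₁ h₂ h₃ h₄ =>
      split at h
      · next hc =>
        simp only [Bool.and_eq_true, beq_iff_eq] at hc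
        obtain ⟨rfl, rfl⟩ := hc
        simp only [Option.some.injEq] at h
        subst h
        have hcom0 : ∀ p q w : ℕ, ∀ k k' : ℕ, M.nf p * M.nf q = M.nf w * M.V k →
            M.nf q * M.nf p = M.nf w * M.V k' →
            M.nf p * M.nf q * (M.nf q * M.nf p)⁻¹ = M.V (k ^^^ k') := by
          intro p q w k k' e1 e2
          rw [e1, e2]
          have hi : (M.V k')⁻¹ = M.V k' := inv_eq_of_mul_eq_one_right (by
            rw [← M.V_xor, Nat.xor_self, M.V_zero])
          rw [M.V_xor, mul_inv_rev, hi, ← mul_assoc, mul_assoc (M.nf w), ← M.V_xor,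
            M.V_central (k ^^^ k'), mul_inv_cancel_right]
        have e1 := hcom0 u v _ f f' (hmul u v _ f h₁) (hmul v u _ f' h₂)
        have e2 := hcom0 a b _ g g' (hmul a b _ g h₃) (hmul b a _ g' h₄)
        obtain ⟨H, this⟩ : ∃ H : X, H * (M.nf u * M.nf v * (M.nf v * M.nf u)⁻¹) * H⁻¹ =
            M.nf a * M.nf b * (M.nf b * M.nf a)⁻¹ := by
          rcases hfus₂ _ hx with ⟨g₀, hgu, hgv⟩ | ⟨hab, hc1⟩
          · obtain ⟨H, hH⟩ := hsurj g₀
            obtain ⟨c, hc1, hce⟩ := hconj u a g₀ hgu H hH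
            obtain ⟨d, hd1, hde⟩ := hconj v b g₀ hgv H hH
            refine ⟨H, ?_⟩
            calc H * (M.nf u * M.nf v * (M.nf v * M.nf u)⁻¹) * H⁻¹
                = (H * M.nf u * H⁻¹) * (H * M.nf v * H⁻¹) *
                    ((H * M.nf v * H⁻¹) * (H * M.nf u * H⁻¹))⁻¹ := by group
              _ = M.nf a * (c * M.nf b) * d * (M.nf b * (d * M.nf a) * c)⁻¹ := by
                rw [hce, hde]; simp only [mul_assoc]
              _ = M.nf a * M.nf b * (c * d) * (M.nf b * M.nf a * (d * c))⁻¹ := by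
                rw [← hcen c hc1 (M.nf b), ← hcen d hd1 (M.nf a)]; simp only [mul_assoc]
              _ = M.nf a * M.nf b * (M.nf b * M.nf a)⁻¹ := by rw [hcen c hc1 d]; group
          · simp only [Prod.mk.injEq] at hab
            obtain ⟨rfl, rfl⟩ := hab
            refine ⟨1, ?_⟩
            have h0 := E.cm_eq (a := M.nf u) (b := M.nf v) (hρnf u) (hρnf v)
            rw [hc1, commutatorElement_def] at h0
            simp only [M.nf_zero, one_mul, mul_one, inv_one, mul_inv_rev]
            simpa only [mul_assoc] using h0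
        rw [e1, e2, M.V_central (f ^^^ f') H, mul_inv_cancel_right] at this
        rw [M.V_xor, this, ← M.V_xor, Nat.xor_self, M.V_zero]
      · simp at h
    · simp at h
  simp only [checkEqs, Bool.and_eq_true, List.all_eq_true, List.mem_range] at he
  obtain ⟨hsome, hproofs⟩ := he
  have heq : ∀ n, M.V (C.eqForms.getD n 0) = 1 := by
    intro n
    by_cases hn : n < C.eqs.length
    · have hn' : n < C.eqForms.length := by simpa [eqForms] using hn
      have hm := List.getElem_mem hn
      obtain ⟨e, hee⟩ := Option.isSome_iff_exists.1 (hsome _ hm)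
      have : C.eqForms.getD n 0 = e := by
        rw [List.getD_eq_getElem _ _ hn']
        simp [Cert.eqForms, hee]
      rw [this]
      rw [hee] at hm
      simp only [Cert.eqs, List.mem_append, List.mem_map] at hm
      rcases hm with (⟨x, -, hx⟩ | ⟨x, hxm, hx⟩) | ⟨x, hxm, hx⟩
      exacts [htri x e hx, hsqe x hxm e hx, hcme x hxm e hx]
    · rw [List.getD_eq_default _ _ (by simpa [eqForms] using Nat.le_of_not_lt hn)]
      exact M.V_zero
  have hfold : ∀ (l : List ℕ) acc,
      M.V (l.foldl (fun acc e => acc ^^^ C.eqForms.getD e 0) acc) = M.V acc := by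
    intro l
    induction l with
    | nil => intro acc; rfl
    | cons a t ih => intro acc; rw [List.foldl_cons, ih, M.V_xor, heq, mul_one]
  have hZ : ∀ f, f &&& C.Z = f → M.V f = 1 := by
    intro f hfZ
    refine List.prod_eq_one fun y hy => ?_
    obtain ⟨v, hv, rfl⟩ := List.mem_map.1 hy
    split_ifs with hb
    · have hv' := List.mem_range.1 hv
      have hz : C.Z.testBit v = true := by
        rw [← hfZ, Nat.testBit_and, Bool.and_eq_true] at hb
        exact hb.2
      have hp := hproofs v hv'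
      rw [hz, Bool.not_true, Bool.false_or, List.any_eq_true] at hp
      obtain ⟨⟨v', l⟩, -, hpe⟩ := hp
      simp only [Bool.and_eq_true, beq_iff_eq] at hpe
      have := hfold l 0
      rw [hpe.2, M.V_zero] at this
      rw [← hVpow C.vars.length v hv']
      exact this
    · rfl
  -- the later generators
  simp only [checkLayers, Bool.and_eq_true, List.all_eq_true, List.mem_range, Bool.or_eq_true,
    decide_eq_true_eq, beq_iff_eq] at hl
  have hcmM : ∀ a b, a < b → b < C.R.n →
      Above C.nb (C.R.cmRule b a).1 ∧ M.V (C.R.cmRule b a).2 = 1 := fun a b hab hb => by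
    have := (hl b hb).2 a hab
    exact ⟨C.above_of_inDer this.1.1, hZ _ this.2⟩
  have hcmA : ∀ a b, a < b → b < C.R.n → Above (b + 1) (C.R.cmRule b a).1 := fun a b hab hb =>
    above_of_shift ((hl b hb).2 a hab).1.2
  have hsqA : ∀ j < C.R.n, Above (j + 1) (C.R.sqRule j).1 := fun j hj => above_of_shift (hl j hj).1.1
  -- the Sylow subgroup
  set Qp : Subgroup G₀ := C.grp PM with hQp
  have hGQ : ∀ k < C.R.n, PM.G k ∈ Qp := fun k hk => Subgroup.subset_closure ⟨k, hk, rfl⟩
  have hnfQ : ∀ w, PM.nf w ∈ Qp := fun w => list_prod_mem fun x hx => by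
    obtain ⟨k, hk, rfl⟩ := List.mem_map.1 hx
    exact hGQ k (Model.bitsOf_mem.1 hk).1
  have hQnf : ∀ x ∈ Qp, ∃ m < 2 ^ C.R.n, PM.nf m = x := by
    intro x hx
    have hx' : x ∈ PM.derSub 0 := by
      refine (Subgroup.closure_le _).2 ?_ hx
      rintro _ ⟨k, hk, rfl⟩
      exact PM.G_mem_derSub (Nat.zero_le k) hk
    obtain ⟨m, -, hm, he⟩ := normalForm_of_layers PM 0 (fun j hj hjn => ⟨hsqA j hjn, hV _⟩)
      (fun a b hab hb => ⟨hcmA a b hab hb, hV _⟩) 0 le_rfl (Nat.zero_le _) x hx'
    exact ⟨m, hm, he⟩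
  let nfQ : Fin (2 ^ C.R.n) → Qp := fun m => ⟨PM.nf m, hnfQ m⟩
  have hnfs : Function.Surjective nfQ := fun ⟨x, hx⟩ => by
    obtain ⟨m, hm, rfl⟩ := hQnf x hx
    exact ⟨⟨m, hm⟩, rfl⟩
  have hcardQ : Nat.card Qp = 2 ^ C.R.n :=
    le_antisymm ((Nat.card_le_card_of_surjective _ hnfs).trans (Nat.card_fin _).le) hcard
  have hnfi : Function.Injective nfQ :=
    ((Nat.bijective_iff_surjective_and_card nfQ).2 ⟨hnfs, by rw [hcardQ, Nat.card_fin]⟩).1
  refine ⟨fun z hzP hz => ?_, hcardQ⟩
  set P0 := E.pre Qp with hP0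
  have hmemP0 : ∀ x, x ∈ P0 ↔ ρ x ∈ Qp := fun x => Iff.rfl
  have hgenP0 : Subgroup.closure ({x | ∃ k, k < C.R.n ∧ M.G k = x} ∪ {x | ρ x = 1}) = P0 := by
    refine le_antisymm ?_ fun x hx => ?_
    · rw [Subgroup.closure_le]
      rintro x (⟨k, hk, rfl⟩ | hx)
      · exact (hmemP0 _).2 (by rw [show ρ (M.G k) = PM.G k from hG1 k hk]; exact hGQ k hk)
      · exact (hmemP0 _).2 (by rw [show ρ x = 1 from hx]; exact one_mem _)
    · obtain ⟨m, hm, he⟩ := hQnf _ ((hmemP0 x).1 hx)
      have h1 : M.nf m ∈ Subgroup.closure ({x | ∃ k, k < C.R.n ∧ M.G k = x} ∪ {x | ρ x = 1}) :=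
        list_prod_mem fun y hy => by
          obtain ⟨k, hk, rfl⟩ := List.mem_map.1 hy
          exact Subgroup.subset_closure (.inl ⟨k, (Model.bitsOf_mem.1 hk).1, rfl⟩)
      have h2' : (M.nf m)⁻¹ * x ∈
          Subgroup.closure ({x | ∃ k, k < C.R.n ∧ M.G k = x} ∪ {x | ρ x = 1}) :=
        Subgroup.subset_closure (.inr (by
          show ρ ((M.nf m)⁻¹ * x) = 1
          rw [map_mul, map_inv, hρnf, he, inv_mul_cancel]))
      simpa using mul_mem h1 h2'
  set Y := M.derSub C.nb with hY
  have hGn : ∀ k < C.R.n, M.G k ∈ Subgroup.normalizer (Y : Set X) := fun k hk =>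
    M.G_mem_normalizer hk fun a b hab hb _ => hcmM a b hab hb
  have hPn : P0 ≤ Subgroup.normalizer (Y : Set X) := by
    rw [← hgenP0, Subgroup.closure_le]
    rintro x (⟨k, hk, rfl⟩ | hx)
    · exact hGn k hk
    · refine Subgroup.mem_normalizer_iff.2 fun y => ?_
      rw [show x * y * x⁻¹ = y by rw [← hcen x hx y, mul_inv_cancel_right]]
  have hgens : ∀ a ∈ ({x | ∃ k, k < C.R.n ∧ M.G k = x} ∪ {x | ρ x = 1} : Set X),
      ∀ b ∈ ({x | ∃ k, k < C.R.n ∧ M.G k = x} ∪ {x | ρ x = 1} : Set X), ⁅a, b⁆ ∈ Y := by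
    have hzero : ∀ a b : X, ρ a = 1 → ⁅a, b⁆ ∈ Y := fun a b h => by
      rw [commutatorElement_eq_one_iff_mul_comm.2 (hcen a h b).symm]; exact one_mem _
    have hlt : ∀ i j, i < j → j < C.R.n → ⁅M.G j, M.G i⁆ ∈ Y := by
      intro i j hij hj
      obtain ⟨hw, hv⟩ := hcmM i j hij hj
      have e : ⁅M.G j, M.G i⁆
          = (M.G i * M.G j) * M.nf (C.R.cmRule j i).1 * (M.G i * M.G j)⁻¹ := by
        rw [commutatorElement_def, M.cm_rule i j hij hj, hv, mul_one]
        simp only [Model.nf, mul_inv_rev, mul_assoc]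
      rw [e]
      exact (Subgroup.mem_normalizer_iff.1 (mul_mem (hGn i (hij.trans hj)) (hGn j hj)) _).1
        (M.nf_mem_derSub hw)
    rintro a (⟨i, hi, rfl⟩ | ha) b (⟨j, hj, rfl⟩ | hb)
    · rcases lt_trichotomy i j with h | rfl | h
      · rw [← commutatorElement_inv]; exact inv_mem (hlt i j h hj)
      · rw [commutatorElement_eq_one_iff_mul_comm.2 rfl]; exact one_mem _
      · exact hlt j i h hi
    · rw [← commutatorElement_inv]; exact inv_mem (hzero b _ hb)
    · exact hzero a _ ha
    · exact hzero a _ ha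
  have hcomY : ⁅P0, P0⁆ ≤ Y := by
    rw [Subgroup.commutator_le]
    intro x hx y hy
    rw [← commutatorElement_inv]
    refine inv_mem (comm_mem hPn hgenP0 (g := x) (fun a ha => ?_) y hy)
    rw [← commutatorElement_inv]
    exact inv_mem (comm_mem hPn hgenP0 (g := a) (fun b hb => hgens b hb a ha) x hx)
  obtain ⟨m, -, hmn, hme⟩ := normalForm_of_layers M C.nb
    (fun j hj hjn => ⟨hsqA j hjn, hZ _ ((hl j hjn).1.2.resolve_left (Nat.not_lt.2 hj))⟩)
    (fun a b hab hb => ⟨hcmA a b hab hb, (hcmM a b hab hb).2⟩) C.nb le_rfl hnb z (hcomY hzP)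
  have hm0 : m = 0 := congrArg Fin.val (hnfi (a₁ := ⟨m, hmn⟩) (a₂ := ⟨0, Nat.two_pow_pos _⟩)
    (Subtype.ext (by
      show PM.nf m = PM.nf 0
      rw [PM.nf_zero, ← hρnf m, hme]
      exact hz)))
  rw [hm0, M.nf_zero] at hme
  exact hme.symm

/-- The form without a pair with commuting lifts. -/
theorem killed_layered {X G₀ : Type*} [Group X] [Finite X] [Group G₀] [Finite G₀] (E : LExt 2 X G₀)
    (PM : Model C.R G₀) (hV : ∀ f, PM.V f = 1) (hr : C.checkRules = true)
    (he : checkEqs C = true) (hl : checkLayers C = true)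
    (hfus : ∀ p ∈ C.sqEqs, ∃ g : G₀, g * PM.nf p.1 * g⁻¹ = PM.nf p.2)
    (hfus₂ : ∀ p ∈ C.cmEqs, ∃ g : G₀, g * PM.nf p.1.1 * g⁻¹ = PM.nf p.2.1 ∧
      g * PM.nf p.1.2 * g⁻¹ = PM.nf p.2.2)
    (hcard : 2 ^ C.R.n ≤ Nat.card (C.grp PM)) :
    E.Killed (C.grp PM) ∧ Nat.card (C.grp PM) = 2 ^ C.R.n :=
  killed_layered_cm C E PM hV hr he hl hfus (fun p hp => Or.inl (hfus₂ p hp)) hcard

end Cfsg.Agent.H40.CoTwo
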