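import Cfsg.Agent.H40.CoTwo.ThreeCheck
import Cfsg.Agent.H40.CoTwo.Common

/-!
Co2 has no stem extension with kernel of order three: an inverted elementary abelian subgroup of
order 81 extended by two commuting elements of order three centralised by the inverting involution.
-/

set_option autoImplicit false

namespace Cfsg.Agent.H40.CoTwo

open Cfsg Cfsg.Agent.Golay Cfsg.Agent.H92.LeechOrbit Cfsg.Agent.Linear.Mult
open Cfsg.Agent.H40.Co (cm_eq_one_of_power cm_eq_one_of_closure killed_inverted_extended nth)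

attribute [local irreducible] wordEl el threeGens threeTop threeInv threeTopWit threeWits
  threePairs Co.eqP Co.conjOK threeConj threeChain threeTopChain ok

theorem noStem_three : NoStem 3 ↥H := by
  have hp := Nat.prime_three
  have h := three_ok
  simp only [Bool.and_eq_true] at h
  obtain ⟨⟨⟨⟨⟨⟨hok, hT⟩, hW⟩, hti⟩, hgi⟩, hlen⟩, hlenT⟩ := h
  have hlen : threeGens.length = 4 := Nat.eq_of_beq_eq_true hlen
  have hlenT : threeTop.length = 2 := Nat.eq_of_beq_eq_true hlenT
  obtain ⟨htt, hA⟩ := inverts (l := 2) hok hti three_pow three_inv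
  have ht := three_top
  simp only [Bool.and_eq_true] at ht
  obtain ⟨⟨hTp, hTc⟩, hTch⟩ := ht
  have h0 : ok (nth threeTop 0) = true := ok_nth hT (by omega)
  have h1 : ok (nth threeTop 1) = true := ok_nth hT (by omega)
  have hg := three_top_inv
  simp only [Bool.and_eq_true] at hg
  obtain ⟨⟨hgg, hg0⟩, hg1⟩ := hg
  have hg2 : el threeTopWit ^ 2 = 1 := by
    refine pow_of_eqP hgi ?_
    simpa using hgg
  have hgq : el threeTopWit * el threeTopWit = 1 := by rw [← pow_two]; exact hg2
  have hinv0 : el threeTopWit * gen threeTop 0 * (el threeTopWit)⁻¹ = (gen threeTop 0)⁻¹ := by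
    have e := el_eq (L := [threeTopWit, nth threeTop 0, threeTopWit])
      (M := List.replicate 2 (nth threeTop 0)) (fun w hw => by
      simp only [List.mem_cons, List.not_mem_nil, or_false] at hw
      rcases hw with rfl | rfl | rfl <;> assumption)
      (fun w hw => by rw [List.eq_of_mem_replicate hw]; exact h0) hg0
    simp only [List.map_cons, List.map_nil, List.prod_cons, List.prod_nil, mul_one,
      List.map_replicate, List.prod_replicate] at e
    rw [show (el threeTopWit)⁻¹ = el threeTopWit from inv_eq_of_mul_eq_one_right hgq, mul_assoc,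
      eq_inv_iff_mul_eq_one]
    show el threeTopWit * (gen threeTop 0 * el threeTopWit) * gen threeTop 0 = 1
    rw [show el threeTopWit * (gen threeTop 0 * el threeTopWit) = gen threeTop 0 ^ 2 from e,
      ← pow_succ]
    exact gen_pow hT hTp (by omega)
  have hcom1 : Commute (el threeTopWit) (gen threeTop 1) := commute_of_eqP hgi h1 hg1
  have hcent := three_cent
  simp only [List.all_eq_true, List.mem_range] at hcent
  have hpairs := three_pairs
  simp only [List.all_eq_true, List.mem_range] at hpairs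
  refine noStem_of_killed hp fun Γ _ _ E => ?_
  haveI := Fact.mk hp
  set A : Set ↥H := gen threeGens '' {j | j < 4} with hAdef
  have key : ∀ i j, j < 4 → i < j → E.cm (gen threeGens i) (gen threeGens j) = 1 ∧
      E.cm (gen threeGens j) (gen threeGens i) = 1 := by
    intro i j hj hi
    obtain ⟨p, -, hp'⟩ := List.any_eq_true.1 (hpairs j hj i hi)
    simp only [Bool.and_eq_true, decide_eq_true_eq, Bool.not_eq_true'] at hp'
    obtain ⟨⟨⟨⟨⟨-, -⟩, hk⟩, hne⟩, hci⟩, hcj⟩ := hp'
    have hkk := ok_nth hW hk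
    have ei := conj_of_conjOK hok hkk (ok_nth hok (by omega))
      (fun x hx => by rw [List.eq_of_mem_replicate hx]; omega) hci
    have ej := conj_of_conjOK hok hkk (ok_nth hok (by omega))
      (fun x hx => by rw [List.eq_of_mem_replicate hx]; omega) hcj
    simp only [List.map_replicate, List.prod_replicate] at ei ej
    have hne' : p.2.2.2.1 * p.2.2.2.2 % 3 ≠ 1 := fun e => by
      rw [e, Nat.beq_refl] at hne; exact absurd hne (by simp)
    exact ⟨cm_eq_one_of_power E (gen_comm hok three_comm (by omega) (by omega)) ei ej hne',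
      cm_eq_one_of_power E (gen_comm hok three_comm (by omega) (by omega)) ej ei
        (by rwa [Nat.mul_comm])⟩
  have hAA : ∀ a ∈ A, ∀ b ∈ A, E.cm a b = 1 := by
    rintro _ ⟨i, hi, rfl⟩ _ ⟨j, hj, rfl⟩
    rcases lt_trichotomy i j with hij | rfl | hij
    · exact (key i j hj hij).1
    · exact E.cm_self _
    · exact (key j i hi hij).2
  -- the complement
  have hot : orderOf (el threeInv) ∣ 2 := orderOf_dvd_of_pow_eq_one (by rw [pow_two, htt])
  have hog : orderOf (el threeTopWit) ∣ 2 := orderOf_dvd_of_pow_eq_one hg2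
  have hcop : ∀ {x y : ↥H}, orderOf x ∣ 2 → y ^ 3 = 1 → Commute x y → E.cm x y = 1 :=
    fun hx hy hxy => E.cm_eq_one_of_coprime hxy (Nat.Coprime.coprime_dvd_left hx
      (Nat.Coprime.coprime_dvd_right (orderOf_dvd_of_pow_eq_one hy) (by norm_num)))
  obtain ⟨hKk, hKc⟩ := killed_inverted_extended E (by norm_num) {gen threeTop 0}
    (Subgroup.zpowers (gen threeTop 1)) (el threeTopWit)
    (by rintro _ rfl; exact hinv0)
    (by rintro _ rfl; exact gen_pow hT hTp (by omega))
    (by rintro _ rfl _ rfl; exact E.cm_self _) (LExt.killed_zpowers _)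
    (fun k hk => cm_eq_one_of_closure E (S := {gen threeTop 1}) (by
      rintro x rfl
      exact ⟨hcom1, hcop hog (gen_pow hT hTp (by omega)) hcom1⟩) k
      (by rwa [← Subgroup.zpowers_eq_closure]))
    (by
      intro k hk _ ha
      rw [Set.mem_singleton_iff.1 ha]
      obtain ⟨n, rfl⟩ := Subgroup.mem_zpowers_iff.1 hk
      have hc := ((gen_comm hT hTc (i := 1) (j := 0) (by omega) (by omega)).zpow_left n).eq
      rw [hc, mul_inv_cancel_right]
      exact Subgroup.subset_closure rfl)
  rw [← Subgroup.zpowers_eq_closure] at hKk hKc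
  set K := Subgroup.zpowers (gen threeTop 0) ⊔ Subgroup.zpowers (gen threeTop 1) with hK
  have hKS : K = Subgroup.closure (gen threeTop '' {j | j < 2}) := by
    refine le_antisymm (sup_le ?_ ?_) ((Subgroup.closure_le _).2 ?_)
    · exact Subgroup.zpowers_le.2 (Subgroup.subset_closure ⟨0, by decide, rfl⟩)
    · exact Subgroup.zpowers_le.2 (Subgroup.subset_closure ⟨1, by decide, rfl⟩)
    · rintro _ ⟨j, hj, rfl⟩
      change j < 2 at hj
      interval_cases j
      · exact Subgroup.mem_sup_left (Subgroup.mem_zpowers _)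
      · exact Subgroup.mem_sup_right (Subgroup.mem_zpowers _)
  have hTK : ∀ k ∈ K, Commute (el threeInv) k ∧ E.cm (el threeInv) k = 1 := by
    rw [hKS]
    refine cm_eq_one_of_closure E ?_
    rintro _ ⟨j, hj, rfl⟩
    have hc := commute_of_eqP hti (ok_nth hT (hlenT.symm ▸ hj)) (hcent j hj)
    exact ⟨hc, hcop hot (gen_pow hT hTp (hlenT.symm ▸ hj)) hc⟩
  have hconj := three_conj
  simp only [List.all_eq_true, List.mem_range, Bool.and_eq_true, decide_eq_true_eq] at hconj
  have hnorm := conj_closure (S := gen threeTop '' {j | j < 2}) (A := A) (by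
    rintro _ ⟨k, hk, rfl⟩ _ ⟨i, hi, rfl⟩
    rw [gen, gen, conj_of_conjOK hok (ok_nth hT (hlenT.symm ▸ hk)) (ok_nth hok (hlen.symm ▸ hi))
      (fun x hx => hlen.symm ▸ (hconj k hk i hi).1 x hx) (hconj k hk i hi).2]
    exact prod_gen_mem (hconj k hk i hi).1)
  rw [← hKS] at hnorm
  obtain ⟨hk, hc⟩ := killed_inverted_extended E (by norm_num) A K (el threeInv)
    (by rintro _ ⟨i, hi, rfl⟩; exact hA i (hlen.symm ▸ hi))
    (by rintro _ ⟨i, hi, rfl⟩; exact gen_pow hok three_pow (hlen.symm ▸ hi))
    hAA hKk hTK hnorm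
  refine ⟨_, hk, fun hd => ?_⟩
  have h3 := pow_dvd_card_gens hp (l := 3) hok three_pow three_comm three_chain
  have h5 := pow_dvd_card_gens hp (l := 3) hT hTp hTc hTch
  rw [hlen] at h3
  rw [hlenT, ← hKS] at h5
  have h4 : 3 ^ 6 ∣ Nat.card ↥(Subgroup.closure A ⊔ K : Subgroup ↥H) := by
    rw [hc, show (3 : ℕ) ^ 6 = 3 ^ 4 * 3 ^ 2 from rfl]
    exact Nat.mul_dvd_mul h3 h5
  have := Nat.mul_dvd_mul h4 hd
  rw [Subgroup.card_mul_index, card_H] at this
  norm_num at this

end Cfsg.Agent.H40.CoTwo
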