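import Cfsg.Agent.H40.CoTwo.ThreeData
import Cfsg.Agent.H40.CoTwo.Base

/-! Kernel checks of the words for the prime 3. -/

set_option autoImplicit false
set_option maxRecDepth 100000

namespace Cfsg.Agent.H40.CoTwo

open Cfsg Cfsg.Agent.Golay Cfsg.Agent.H92.LeechOrbit
open Cfsg.Agent.H40.Co (eqP conjOK commOK powOK chainOK moveS nth)

/-- The witness for a pair of generators. -/
noncomputable def pairOK (i j : ℕ) : Bool :=
  threePairs.any fun p => Nat.beq p.1 i && Nat.beq p.2.1 j &&
    decide (p.2.2.1 < threeWits.length) && !(Nat.beq (p.2.2.2.1 * p.2.2.2.2 % 3) 1) &&
    conjOK threeGens (nth threeWits p.2.2.1) (nth threeGens i) (List.replicate p.2.2.2.1 i) &&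
    conjOK threeGens (nth threeWits p.2.2.1) (nth threeGens j) (List.replicate p.2.2.2.2 j)

theorem three_ok : (threeGens.all ok && threeTop.all ok && threeWits.all ok && ok threeInv &&
    ok threeTopWit && Nat.beq threeGens.length 4 && Nat.beq threeTop.length 2) = true := by
  decide +kernel

theorem three_comm : commOK threeGens = true := by decide +kernel

theorem three_pow : powOK 3 threeGens = true := by decide +kernel

theorem three_chain : chainOK threeGens threeChain = true := by decide +kernel

theorem three_inv : (eqP [threeInv, threeInv] [] && threeGens.all fun a =>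
    eqP [threeInv, a, threeInv] (List.replicate 2 a)) = true := by decide +kernel

theorem three_top : (powOK 3 threeTop && commOK threeTop && chainOK threeTop threeTopChain) = true := by
  decide +kernel

theorem three_top_inv : (eqP [threeTopWit, threeTopWit] [] &&
    eqP [threeTopWit, nth threeTop 0, threeTopWit] (List.replicate 2 (nth threeTop 0)) &&
    eqP [threeTopWit, nth threeTop 1] [nth threeTop 1, threeTopWit]) = true := by decide +kernel

theorem three_cent : ((List.range 2).all fun k =>
    eqP [threeInv, nth threeTop k] [nth threeTop k, threeInv]) = true := by decide +kernel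

theorem three_conj : ((List.range 2).all fun k => (List.range 4).all fun i =>
    (((threeConj.getD k []).getD i []).all fun x => decide (x < 4)) &&
    conjOK threeGens (nth threeTop k) (nth threeGens i) ((threeConj.getD k []).getD i [])) = true := by
  decide +kernel

theorem three_pairs : ((List.range 4).all fun j => (List.range j).all fun i => pairOK i j) = true := by
  decide +kernel

end Cfsg.Agent.H40.CoTwo
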