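import Cfsg.Agent.H40.CoTwo.TwoCheck

/-!
Co2 has no stem extension with kernel of order two: the collector certificate on a Sylow
2-subgroup of monomial elements.
-/

set_option autoImplicit false

namespace Cfsg.Agent.H40.CoTwo

open Cfsg Cfsg.Agent.Golay Cfsg.Agent.H92.LeechOrbit Cfsg.Agent.Linear.Mult Cfsg.Agent.H94.Mult
open Cfsg.Agent.H40.Co (nth keepS moveS setFixes mem_setFixes notMem_setFixes)

attribute [local irreducible] wordEl el twoGens twoConjSq twoConjCm twoChain twoCert Co.eqP ok

theorem two_facts : twoGens.all ok = true ∧ twoConjSq.all ok = true ∧ twoConjCm.all ok = true ∧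
    twoGens.length = twoCert.R.n ∧ twoConjSq.length = twoCert.sqEqs.length ∧
    twoConjCm.length = twoCert.cmEqs.length ∧ twoCert.R.n = 18 := by
  have h := two_ok
  simp only [Bool.and_eq_true] at h
  obtain ⟨⟨⟨⟨⟨⟨a, b⟩, c⟩, d⟩, e⟩, f⟩, g⟩ := h
  exact ⟨a, b, c, Nat.eq_of_beq_eq_true d, Nat.eq_of_beq_eq_true e, Nat.eq_of_beq_eq_true f,
    Nat.eq_of_beq_eq_true g⟩

theorem ok_two {i : ℕ} (hi : i < twoCert.R.n) : ok (nth twoGens i) = true :=
  ok_nth two_facts.1 (by rw [two_facts.2.2.2.1]; exact hi)

theorem ok_twoNf (u : ℕ) : ∀ w ∈ twoNf u, ok w = true := by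
  intro w hw
  obtain ⟨k, hk, rfl⟩ := List.mem_map.1 hw
  exact ok_two (Model.bitsOf_mem.1 hk).1

/-- The model of the Sylow 2-subgroup. -/
noncomputable def twoModel : Model twoCert.R ↥H where
  G k := gen twoGens k
  V _ := 1
  V_zero := rfl
  V_xor _ _ := (one_mul _).symm
  V_central _ x := by rw [one_mul, mul_one]
  sq_rule i hi := by
    have h := List.all_eq_true.1 two_sq i (List.mem_range.2 hi)
    have e := el_eq (L := [nth twoGens i, nth twoGens i]) (M := twoNf (twoCert.R.sqRule i).1)
      (fun w hw => by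
        simp only [List.mem_cons, List.not_mem_nil, or_false, or_self] at hw
        rw [hw]; exact ok_two hi) (ok_twoNf _) h
    rw [mul_one]
    simpa [twoNf, gen, List.map_map, Function.comp_def] using e
  cm_rule i j hij hj := by
    have h := two_cm
    simp only [List.all_eq_true, List.mem_range] at h
    have e := el_eq (L := [nth twoGens j, nth twoGens i])
      (M := [nth twoGens i, nth twoGens j] ++ twoNf (twoCert.R.cmRule j i).1)
      (fun w hw => by
        simp only [List.mem_cons, List.not_mem_nil, or_false] at hw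
        rcases hw with rfl | rfl
        · exact ok_two hj
        · exact ok_two (hij.trans hj))
      (fun w hw => by
        rcases List.mem_append.1 hw with hw | hw
        · simp only [List.mem_cons, List.not_mem_nil, or_false] at hw
          rcases hw with rfl | rfl
          · exact ok_two (hij.trans hj)
          · exact ok_two hj
        · exact ok_twoNf _ w hw) (h j hj i hij)
    rw [mul_one]
    simpa [twoNf, gen, List.map_map, Function.comp_def, mul_assoc] using e

/-- An equation of a conjugation. -/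
theorem conj_nf {g : List Atom} (hg : ok g = true) {u w : ℕ}
    (h : Co.eqP (g :: twoNf u) (twoNf w ++ [g]) = true) :
    el g * twoModel.nf u * (el g)⁻¹ = twoModel.nf w := by
  have e := el_eq (L := g :: twoNf u) (M := twoNf w ++ [g]) (fun x hx => by
    rcases List.mem_cons.1 hx with rfl | hx
    · exact hg
    · exact ok_twoNf u x hx) (fun x hx => by
    rcases List.mem_append.1 hx with hx | hx
    · exact ok_twoNf w x hx
    · rw [List.mem_singleton.1 hx]; exact hg) h
  simp only [List.map_cons, List.prod_cons, List.map_append, List.prod_append, List.map_nil,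
    List.prod_nil, mul_one, twoNf, List.map_map] at e
  refine mul_inv_eq_iff_eq_mul.2 ?_
  exact e

theorem pow_le_card_derSub : ∀ k d, d + k = twoCert.R.n →
    2 ^ k ≤ Nat.card ↥(twoModel.derSub d) := by
  have hk' := two_keep
  have hm' := two_move
  simp only [List.all_eq_true, List.mem_range, Bool.or_eq_true, Nat.ble_eq] at hk' hm'
  intro k
  induction k with
  | zero => exact fun d _ => Nat.card_pos
  | succ k ih =>
    intro d hd
    have hdn : d < twoCert.R.n := by omega
    have ih' := ih (d + 1) (by omega)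
    have hle : twoModel.derSub (d + 1) ≤ twoModel.derSub d := by
      refine Subgroup.closure_mono ?_
      rintro x ⟨i, h1, h2, h3⟩
      exact ⟨i, by omega, h2, h3⟩
    have hnot : gen twoGens d ∉ twoModel.derSub (d + 1) := by
      intro hmem
      refine notMem_setFixes (atoms_of_ok (ok_two hdn)) (hm' d hdn) ?_
      rw [← coe_el (ok_two hdn)]
      refine (Subgroup.closure_le ((setFixes (twoChain.getD d [])).comap H.subtype)).2 ?_ hmem
      rintro _ ⟨j, hj, hjn, rfl⟩
      show (gen twoGens j : Co0) ∈ setFixes _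
      rw [gen, coe_el (ok_two hjn)]
      exact mem_setFixes (atoms_of_ok (ok_two hjn))
        ((hk' d hdn j hjn).resolve_left (by omega))
    have hne : twoModel.derSub (d + 1) ≠ twoModel.derSub d := fun e =>
      hnot (e ▸ twoModel.G_mem_derSub le_rfl hdn)
    obtain ⟨c, hc⟩ := Subgroup.card_dvd_of_le hle
    have hc2 : 2 ≤ c := by
      by_contra hcl
      interval_cases c
      · exact absurd hc (by simpa using (Nat.card_pos (α := ↥(twoModel.derSub d))).ne')
      · exact hne (Subgroup.eq_of_le_of_card_ge hle (by rw [hc, mul_one]))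
    rw [hc, pow_succ]
    exact Nat.mul_le_mul ih' hc2

theorem noStem_two : NoStem 2 ↥H := by
  obtain ⟨-, hsq, hcm, -, hlsq, hlcm, hn⟩ := two_facts
  refine noStem_of_killed Nat.prime_two fun Γ _ _ E => ?_
  have h1 : ∀ p ∈ twoCert.sqEqs, ∃ g : ↥H,
      g * twoModel.nf p.1 * g⁻¹ = twoModel.nf p.2 := by
    intro p hp
    obtain ⟨k, hk, rfl⟩ := List.getElem_of_mem hp
    have h := List.all_eq_true.1 two_fus k (List.mem_range.2 hk)
    rw [List.getD_eq_getElem _ _ hk] at h
    exact ⟨_, conj_nf (ok_nth hsq (hlsq.symm ▸ hk)) h⟩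
  have h2 : ∀ p ∈ twoCert.cmEqs, ∃ g : ↥H,
      g * twoModel.nf p.1.1 * g⁻¹ = twoModel.nf p.2.1 ∧
      g * twoModel.nf p.1.2 * g⁻¹ = twoModel.nf p.2.2 := by
    intro p hp
    obtain ⟨k, hk, rfl⟩ := List.getElem_of_mem hp
    have h := List.all_eq_true.1 two_fus_pairs k (List.mem_range.2 hk)
    rw [List.getD_eq_getElem _ _ hk, Bool.and_eq_true] at h
    exact ⟨_, conj_nf (ok_nth hcm (hlcm.symm ▸ hk)) h.1,
      conj_nf (ok_nth hcm (hlcm.symm ▸ hk)) h.2⟩
  have hgrp : twoModel.derSub 0 ≤ twoCert.grp twoModel := by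
    refine Subgroup.closure_mono ?_
    rintro x ⟨i, -, h2, h3⟩
    exact ⟨i, h2, h3⟩
  obtain ⟨hk, hc⟩ := killed_layered twoCert E twoModel (fun _ => rfl) two_rules two_check_eqs
    two_layers h1 h2
    ((pow_le_card_derSub twoCert.R.n 0 (by omega)).trans (Subgroup.card_le_of_le hgrp))
  refine ⟨_, hk, fun hd => ?_⟩
  have h4 : 2 ^ 18 ∣ Nat.card ↥(twoCert.grp twoModel) := by rw [hc, hn]
  have := Nat.mul_dvd_mul h4 hd
  rw [Subgroup.card_mul_index, card_H] at this
  norm_num at this

end Cfsg.Agent.H40.CoTwo
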