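import Cfsg.Agent.H40.CoTwo.TwoData
import Cfsg.Agent.H40.CoTwo.Pc
import Cfsg.Agent.H40.CoTwo.Base

/-! Kernel checks at the prime 2. -/

set_option autoImplicit false
set_option Elab.async false
set_option maxRecDepth 100000

namespace Cfsg.Agent.H40.CoTwo

open Cfsg Cfsg.Agent.Golay Cfsg.Agent.H92.LeechOrbit Cfsg.Agent.H94.Mult
open Cfsg.Agent.H40.Co (eqP keepS moveS nth)

/-- The words of a normal form. -/
noncomputable def twoNf (u : ℕ) : List (List Atom) := (bitsOf twoCert.R.n u).map (nth twoGens)

theorem two_rules : twoCert.checkRules = true := by decide +kernel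

theorem two_check_eqs : checkEqs twoCert = true := by decide +kernel

theorem two_layers : checkLayers twoCert = true := by decide +kernel

theorem two_ok : (twoGens.all ok && twoConjSq.all ok && twoConjCm.all ok &&
    Nat.beq twoGens.length twoCert.R.n && Nat.beq twoConjSq.length twoCert.sqEqs.length &&
    Nat.beq twoConjCm.length twoCert.cmEqs.length && Nat.beq twoCert.R.n 18) = true := by
  decide +kernel

theorem two_sq : ((List.range twoCert.R.n).all fun j =>
    eqP [nth twoGens j, nth twoGens j] (twoNf (twoCert.R.sqRule j).1)) = true := by decide +kernel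

theorem two_cm : ((List.range twoCert.R.n).all fun j => (List.range j).all fun i =>
    eqP [nth twoGens j, nth twoGens i]
      ([nth twoGens i, nth twoGens j] ++ twoNf (twoCert.R.cmRule j i).1)) = true := by decide +kernel

theorem two_fus : ((List.range twoCert.sqEqs.length).all fun k =>
    eqP (nth twoConjSq k :: twoNf (twoCert.sqEqs.getD k (0, 0)).1)
      (twoNf (twoCert.sqEqs.getD k (0, 0)).2 ++ [nth twoConjSq k])) = true := by decide +kernel

theorem two_fus_pairs : ((List.range twoCert.cmEqs.length).all fun k =>
    eqP (nth twoConjCm k :: twoNf (twoCert.cmEqs.getD k ((0, 0), (0, 0))).1.1)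
      (twoNf (twoCert.cmEqs.getD k ((0, 0), (0, 0))).2.1 ++ [nth twoConjCm k]) &&
    eqP (nth twoConjCm k :: twoNf (twoCert.cmEqs.getD k ((0, 0), (0, 0))).1.2)
      (twoNf (twoCert.cmEqs.getD k ((0, 0), (0, 0))).2.2 ++ [nth twoConjCm k])) = true := by
  decide +kernel

theorem two_keep : ((List.range twoCert.R.n).all fun d => (List.range twoCert.R.n).all fun k =>
    Nat.ble k d || keepS (nth twoGens k) (twoChain.getD d [])) = true := by decide +kernel

theorem two_move : ((List.range twoCert.R.n).all fun d =>
    moveS (nth twoGens d) (twoChain.getD d [])) = true := by decide +kernel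

end Cfsg.Agent.H40.CoTwo
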